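import Groth.Prelude.Def_RelSpec
import Groth.Prelude.Def_AffAlg
import Groth.Agent.Lib.AffAlgBij.Basic
import Groth.Agent.Lib.RelSpecBasics.Gamma

/-!
# Direct images of affine schemes: morphisms of quasi-coherent algebras and pushouts
-/

set_option autoImplicit false

noncomputable section

universe u

open CategoryTheory CategoryTheory.Limits AlgebraicGeometry Opposite TopologicalSpace

namespace Groth.Agent.Lib.QCAlgPush

variable {X Y T S : Scheme.{u}} {f : X ⟶ S} {g : Y ⟶ S} {l : T ⟶ S}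

/-- The algebra map induced by a morphism over `S`. -/
def ofHom (f : X ⟶ S) [QuasiCompact f] [QuasiSeparated f] (g : Y ⟶ S) [QuasiCompact g]
    [QuasiSeparated g] (h : Y ⟶ X) (w : h ≫ f = g) :
    RelSpec.QCAlg.directImage f ⟶ RelSpec.QCAlg.directImage g :=
  ⟨AffAlg.algHom f g h w, AffAlg.algHom_comm f g h w⟩

theorem algHom_comp (h : Y ⟶ X) (w : h ≫ f = g) (k : T ⟶ Y) (w' : k ≫ g = l) (w'' : (k ≫ h) ≫ f = l) :
    AffAlg.algHom f g h w ≫ AffAlg.algHom g l k w' = AffAlg.algHom f l (k ≫ h) w'' := by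
  refine NatTrans.ext (funext fun U => ?_)
  obtain ⟨U⟩ := U
  rw [NatTrans.comp_app, AffAlgBij.algHom_app, AffAlgBij.algHom_app, AffAlgBij.algHom_app]
  exact Scheme.Hom.appLE_comp_appLE k h _ _ _ _ _

variable [QuasiCompact f] [QuasiSeparated f] [QuasiCompact g] [QuasiSeparated g] [QuasiCompact l]
  [QuasiSeparated l]

theorem ofHom_comp (h : Y ⟶ X) (w : h ≫ f = g) (k : T ⟶ Y) (w' : k ≫ g = l) :
    ofHom f g h w ≫ ofHom g l k w' =
      ofHom f l (k ≫ h) (by rw [Category.assoc, w, w']) :=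
  RelSpec.QCAlg.hom_ext (algHom_comp h w k w' (by rw [Category.assoc, w, w']))

theorem ofHom_congr {h₁ h₂ : Y ⟶ X} {w₁ : h₁ ≫ f = g} {w₂ : h₂ ≫ f = g} (e : h₁ = h₂) :
    ofHom f g h₁ w₁ = ofHom f g h₂ w₂ := by
  subst e
  rfl

theorem ofHom_injective [IsAffineHom f] {h₁ h₂ : Y ⟶ X} {w₁ : h₁ ≫ f = g} {w₂ : h₂ ≫ f = g}
    (e : ofHom f g h₁ w₁ = ofHom f g h₂ w₂) : h₁ = h₂ :=
  congrArg Subtype.val (AffAlgBij.injective (f := f) (g := g) (a₁ := ⟨h₁, w₁⟩) (a₂ := ⟨h₂, w₂⟩)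
    (Subtype.ext (congrArg RelSpec.QCAlg.Hom.hom e)))

theorem ofHom_surjective [IsAffineHom f]
    (φ : RelSpec.QCAlg.directImage f ⟶ RelSpec.QCAlg.directImage g) :
    ∃ (h : Y ⟶ X) (w : h ≫ f = g), ofHom f g h w = φ := by
  obtain ⟨⟨h, w⟩, e⟩ := AffAlgBij.surjective (f := f) (g := g) ⟨φ.hom, φ.comm⟩
  exact ⟨h, w, RelSpec.QCAlg.hom_ext (congrArg Subtype.val e)⟩

/-- Every quasi-coherent algebra is the direct image of its relative spectrum. -/
def gammaIso (A : RelSpec.QCAlg S) : RelSpec.QCAlg.directImage A.π ≅ A where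
  hom := A.gammaHom
  inv :=
    ⟨@CategoryTheory.inv _ _ _ _ A.gammaMap (RelSpecBasics.Gamma.isIso_gammaMap A), (@IsIso.comp_inv_eq _ _ _ _ _ A.gammaMap (RelSpecBasics.Gamma.isIso_gammaMap A) _ _).2
      A.π_c_gammaMap.symm⟩
  hom_inv_id := RelSpec.QCAlg.hom_ext (@IsIso.hom_inv_id _ _ _ _ A.gammaMap
    (RelSpecBasics.Gamma.isIso_gammaMap A))
  inv_hom_id := RelSpec.QCAlg.hom_ext (@IsIso.inv_hom_id _ _ _ _ A.gammaMap
    (RelSpecBasics.Gamma.isIso_gammaMap A))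

theorem isPushout_ofHom {X' Z : Scheme.{u}} (g : Y ⟶ S) [IsAffineHom g]
    (fX : X ⟶ S) [IsAffineHom fX] (fX' : X' ⟶ S) [IsAffineHom fX'] (fZ : Z ⟶ S) [IsAffineHom fZ]
    {f : X ⟶ Y} {f' : X' ⟶ Y} {p : Z ⟶ X} {p' : Z ⟶ X'} (hZ : IsPullback p p' f f')
    (wf : f ≫ g = fX) (wf' : f' ≫ g = fX') (wp : p ≫ fX = fZ) (wp' : p' ≫ fX' = fZ) :
    IsPushout (ofHom g fX f wf) (ofHom g fX' f' wf') (ofHom fX fZ p wp) (ofHom fX' fZ p' wp') := by
  have hw : ofHom g fX f wf ≫ ofHom fX fZ p wp = ofHom g fX' f' wf' ≫ ofHom fX' fZ p' wp' := by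
    rw [ofHom_comp, ofHom_comp]
    exact ofHom_congr hZ.w
  have key : ∀ s : PushoutCocone (ofHom g fX f wf) (ofHom g fX' f' wf'),
      ∃! m : RelSpec.QCAlg.directImage fZ ⟶ s.pt,
        ofHom fX fZ p wp ≫ m = s.inl ∧ ofHom fX' fZ p' wp' ≫ m = s.inr := by
    intro s
    obtain ⟨hX, wX, eX⟩ := ofHom_surjective (s.inl ≫ (gammaIso s.pt).inv)
    obtain ⟨hX', wX', eX'⟩ := ofHom_surjective (s.inr ≫ (gammaIso s.pt).inv)
    have hagree : hX ≫ f = hX' ≫ f' := by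
      refine ofHom_injective (f := g) (g := s.pt.π) (w₁ := by rw [Category.assoc, wf, wX])
        (w₂ := by rw [Category.assoc, wf', wX']) ?_
      rw [← ofHom_comp f wf hX wX, ← ofHom_comp f' wf' hX' wX', eX, eX', ← Category.assoc,
        ← Category.assoc, s.condition]
    have wt : hZ.lift hX hX' hagree ≫ fZ = s.pt.π := by
      rw [← wp, ← Category.assoc, hZ.lift_fst, wX]
    refine ⟨ofHom fZ s.pt.π (hZ.lift hX hX' hagree) wt ≫ (gammaIso s.pt).hom, ⟨?_, ?_⟩, ?_⟩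
    · rw [← Category.assoc, ← Iso.eq_comp_inv, ofHom_comp, ← eX]
      exact ofHom_congr (hZ.lift_fst _ _ _)
    · rw [← Category.assoc, ← Iso.eq_comp_inv, ofHom_comp, ← eX']
      exact ofHom_congr (hZ.lift_snd _ _ _)
    · rintro m ⟨h1, h2⟩
      obtain ⟨t, wt', et⟩ := ofHom_surjective (m ≫ (gammaIso s.pt).inv)
      rw [← Iso.comp_inv_eq, ← et]
      have e1 : t ≫ p = hX := by
        refine ofHom_injective (f := fX) (g := s.pt.π) (w₁ := by rw [Category.assoc, wp, wt'])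
          (w₂ := wX) ?_
        rw [← ofHom_comp p wp t wt', et, eX, ← Category.assoc, h1]
      have e2 : t ≫ p' = hX' := by
        refine ofHom_injective (f := fX') (g := s.pt.π) (w₁ := by rw [Category.assoc, wp', wt'])
          (w₂ := wX') ?_
        rw [← ofHom_comp p' wp' t wt', et, eX', ← Category.assoc, h2]
      have e3 : t = hZ.lift hX hX' hagree :=
        hZ.hom_ext (by rw [e1, IsPullback.lift_fst]) (by rw [e2, IsPullback.lift_snd])
      exact ofHom_congr e3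
  refine IsPushout.of_isColimit' ⟨hw⟩ (PushoutCocone.IsColimit.mk _ (fun s => (key s).choose)
    (fun s => (key s).choose_spec.1.1) (fun s => (key s).choose_spec.1.2)
    (fun s m h1 h2 => (key s).choose_spec.2 m ⟨h1, h2⟩))

end Groth.Agent.Lib.QCAlgPush
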